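import Mathlib
import Cfsg.Agent.Lib.SpecU42.PSp

set_option autoImplicit false

/-!
A finite solvable group with spectrum `{1,2,3,4,5,6,9,12}`: a group of class three and exponent nine over
the field with 81 elements, extended by a Frobenius group of order twenty, in which the fixed points of an
involution have exponent three.
-/

namespace CfsgLib.SpecU42

/-- The carrier of the normal subgroup of exponent nine. -/
@[ext]
structure N7 (F : Type) where
  /-- coordinate -/
  x : F
  /-- coordinate -/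
  y : F
  /-- coordinate -/
  d : F
  /-- coordinate -/
  e : F
  /-- coordinate -/
  f : F
  /-- coordinate -/
  g : F
  /-- coordinate -/
  w : F

variable {F : Type} [Field F] [CharP F 3]

theorem h3 : (3 : F) = 0 := by exact_mod_cast CharP.cast_eq_zero F 3

theorem p3 (a b : F) : (a + b) ^ 3 = a ^ 3 + b ^ 3 := by
  linear_combination (a ^ 2 * b + a * b ^ 2) * (h3 (F := F))

theorem p9 (a b : F) : (a + b) ^ 9 = a ^ 9 + b ^ 9 := by
  rw [show (9 : ℕ) = 3 * 3 from rfl, pow_mul, pow_mul, pow_mul, p3, p3]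

namespace N7

instance : Mul (N7 F) :=
  ⟨fun a b => ⟨a.x + b.x, a.y + b.y, a.d + b.d + a.x * b.y ^ 3, a.e + b.e + a.y ^ 3 * b.y ^ 9,
    a.f + b.f + a.x ^ 9 * b.y ^ 3, a.g + b.g + a.y ^ 3 * b.y,
    a.w + b.w + a.x * b.e + a.d * b.y ^ 9 - a.x ^ 9 * b.g - a.f * b.y⟩⟩

instance : One (N7 F) := ⟨⟨0, 0, 0, 0, 0, 0, 0⟩⟩

instance : Inv (N7 F) :=
  ⟨fun a => ⟨-a.x, -a.y, -a.d + a.x * a.y ^ 3, -a.e + a.y ^ 3 * a.y ^ 9, -a.f + a.x ^ 9 * a.y ^ 3,
    -a.g + a.y ^ 3 * a.y,
    -a.w + a.x * a.e - (-a.d + a.x * a.y ^ 3) * a.y ^ 9 - a.x ^ 9 * a.g + (-a.f + a.x ^ 9 * a.y ^ 3) * a.y⟩⟩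

theorem mul_def (a b : N7 F) : a * b = ⟨a.x + b.x, a.y + b.y, a.d + b.d + a.x * b.y ^ 3,
    a.e + b.e + a.y ^ 3 * b.y ^ 9,
    a.f + b.f + a.x ^ 9 * b.y ^ 3, a.g + b.g + a.y ^ 3 * b.y,
    a.w + b.w + a.x * b.e + a.d * b.y ^ 9 - a.x ^ 9 * b.g - a.f * b.y⟩ := rfl

theorem one_def : (1 : N7 F) = ⟨0, 0, 0, 0, 0, 0, 0⟩ := rfl

theorem inv_def (a : N7 F) : a⁻¹ = ⟨-a.x, -a.y, -a.d + a.x * a.y ^ 3, -a.e + a.y ^ 3 * a.y ^ 9,
    -a.f + a.x ^ 9 * a.y ^ 3, -a.g + a.y ^ 3 * a.y,
    -a.w + a.x * a.e - (-a.d + a.x * a.y ^ 3) * a.y ^ 9 - a.x ^ 9 * a.g + (-a.f + a.x ^ 9 * a.y ^ 3) * a.y⟩ := rfl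

instance : Group (N7 F) where
  mul_assoc a b c := by
    simp only [mul_def, p3, p9]
    ext <;> simp only <;> ring
  one_mul a := by
    simp only [mul_def, one_def]
    ext <;> simp
  mul_one a := by
    simp only [mul_def, one_def]
    ext <;> simp
  inv_mul_cancel a := by
    simp only [mul_def, one_def, inv_def]
    ext <;> simp only <;> ring

instance [Finite F] : Finite (N7 F) :=
  Finite.of_injective (fun a => (a.x, a.y, a.d, a.e, a.f, a.g, a.w)) fun a b h => by
    simp only [Prod.mk.injEq] at h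
    ext <;> tauto

theorem cube (a : N7 F) : a ^ 3 = ⟨0, 0, 0, 0, 0, 0, a.x * a.y ^ 12 - a.x ^ 9 * a.y ^ 4⟩ := by
  have h := h3 (F := F)
  simp only [pow_succ, pow_zero, one_mul, mul_def]
  ext <;> simp only
  · linear_combination a.x * h
  · linear_combination a.y * h
  · linear_combination (a.d + a.x * a.y ^ 3) * h
  · linear_combination (a.e + 3 * a.y ^ 12) * h
  · linear_combination (a.f + 171 * (a.x ^ 9 * a.y ^ 3)) * h
  · linear_combination (a.g + 3 * a.y ^ 4) * h
  · linear_combination (a.w + a.x * a.e + a.d * a.y ^ 9 - a.f * a.y - 171 * (a.x ^ 9 * a.g)) * h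

theorem pow_nine (a : N7 F) : a ^ 9 = 1 := by
  rw [show (9 : ℕ) = 3 * 3 from rfl, pow_mul, cube, cube, one_def]
  simp

/-- The semilinear action of `(z, σ)`. -/
def actEquiv (z : F) (hz : z ^ 5 = 1) (σ : F ≃+* F) : MulAut (N7 F) where
  toFun a := ⟨z * σ a.x, z * σ a.y, z ^ 4 * σ a.d, z ^ 2 * σ a.e, z ^ 2 * σ a.f, z ^ 4 * σ a.g, z ^ 3 * σ a.w⟩
  invFun a := ⟨σ.symm (z ^ 4 * a.x), σ.symm (z ^ 4 * a.y), σ.symm (z * a.d), σ.symm (z ^ 3 * a.e),
    σ.symm (z ^ 3 * a.f), σ.symm (z * a.g), σ.symm (z ^ 2 * a.w)⟩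
  left_inv a := by
    ext <;> simp only <;> apply σ.injective <;> rw [RingEquiv.apply_symm_apply] <;>
      linear_combination (σ _) * hz
  right_inv a := by
    ext <;> simp only [RingEquiv.apply_symm_apply]
    · linear_combination a.x * hz
    · linear_combination a.y * hz
    · linear_combination a.d * hz
    · linear_combination a.e * hz
    · linear_combination a.f * hz
    · linear_combination a.g * hz
    · linear_combination a.w * hz
  map_mul' a b := by
    simp only [mul_def, map_add, map_sub, map_mul, map_pow, mul_pow]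
    ext <;> simp only
    · ring
    · ring
    · ring
    · linear_combination (-(z ^ 7 + z ^ 2) * (σ a.y ^ 3 * σ b.y ^ 9)) * hz
    · linear_combination (-(z ^ 7 + z ^ 2) * (σ a.x ^ 9 * σ b.y ^ 3)) * hz
    · ring
    · linear_combination (-(z ^ 8 + z ^ 3) * (σ a.d * σ b.y ^ 9 - σ a.x ^ 9 * σ b.g)) * hz

theorem actEquiv_apply (z : F) (hz : z ^ 5 = 1) (σ : F ≃+* F) (a : N7 F) : actEquiv z hz σ a =
    ⟨z * σ a.x, z * σ a.y, z ^ 4 * σ a.d, z ^ 2 * σ a.e, z ^ 2 * σ a.f, z ^ 4 * σ a.g, z ^ 3 * σ a.w⟩ := rfl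

end N7

abbrev Fld := GaloisField 3 4

theorem card_fld : Nat.card Fld = 81 := by rw [GaloisField.card 3 4 (by norm_num)]; norm_num

theorem pow81 (a : Fld) : a ^ 81 = a := by
  haveI := Fintype.ofFinite Fld
  have h : Fintype.card Fld = 81 := by rw [← Nat.card_eq_fintype_card, card_fld]
  rw [← h]
  exact FiniteField.pow_card a

/-- The Frobenius automorphism. -/
noncomputable def fr : Fld ≃+* Fld := frobeniusEquiv Fld 3

theorem fr_apply (a : Fld) : fr a = a ^ 3 := by simp [fr, frobeniusEquiv_apply, frobenius_def]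

theorem fr_pow_apply (k : ℕ) (a : Fld) : (fr ^ k) a = a ^ 3 ^ k := by
  induction k with
  | zero => simp
  | succ k ih => rw [pow_succ', RingAut.mul_apply, ih, fr_apply, ← pow_mul, pow_succ 3 k]

theorem fr_pow_four : fr ^ 4 = 1 := by
  ext a
  rw [fr_pow_apply, RingAut.one_apply]
  norm_num [pow81]

theorem exists_eight : ∃ ω : Fld, ω ≠ 0 ∧ ω ^ 8 ≠ 1 := by
  haveI := Fintype.ofFinite Fld
  obtain ⟨u, hu⟩ := IsCyclic.exists_generator (α := Fldˣ)
  have ho : orderOf u = 80 := by
    rw [orderOf_eq_card_of_forall_mem_zpowers hu, Nat.card_units, card_fld]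
  refine ⟨u.1, u.ne_zero, fun h => ?_⟩
  have h8 : u ^ 8 = 1 := Units.ext (by simpa using h)
  have := orderOf_dvd_of_pow_eq_one h8
  rw [ho] at this
  norm_num at this

theorem fr_sq_ne_one : fr ^ 2 ≠ 1 := by
  obtain ⟨ω, h0, h8⟩ := exists_eight
  intro h
  have := congrArg (fun σ : Fld ≃+* Fld => σ ω) h
  simp only [fr_pow_apply, RingAut.one_apply] at this
  apply h8
  apply mul_left_cancel₀ h0
  rw [mul_one, ← pow_succ']
  exact this

theorem orderOf_fr : orderOf fr = 4 :=
  orderOf_eq_prime_pow (p := 2) (n := 1) (by simpa using fr_sq_ne_one) (by simpa using fr_pow_four)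

noncomputable abbrev Mu := rootsOfUnity 5 Fld
noncomputable abbrev Gal := Subgroup.zpowers fr

/-- The Galois action on the fifth roots of unity. -/
noncomputable def galMu : Gal →* MulAut Mu where
  toFun σ := (σ.1 : Fld ≃+* Fld).restrictRootsOfUnity 5
  map_one' := by ext; rfl
  map_mul' σ τ := by ext; rfl

/-- The Frobenius group of order twenty. -/
abbrev Frob20 := Mu ⋊[galMu] Gal

theorem mu_pow (z : Mu) : ((z.1 : Fldˣ) : Fld) ^ 5 = 1 := (mem_rootsOfUnity' 5 z.1).1 z.2

/-- The action of the Frobenius group on the normal subgroup. -/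
noncomputable def actN : Frob20 →* MulAut (N7 Fld) where
  toFun c := N7.actEquiv ((c.left.1 : Fldˣ) : Fld) (mu_pow c.left) c.right.1
  map_one' := by
    ext a <;> simp [N7.actEquiv_apply]
  map_mul' c c' := by
    apply MulEquiv.ext
    intro a
    rw [MulAut.mul_apply]
    simp only [N7.actEquiv_apply, SemidirectProduct.mul_left, SemidirectProduct.mul_right,
      Subgroup.coe_mul, Units.val_mul, RingAut.mul_apply, map_mul, map_pow]
    ext <;> simp only <;>
      (rw [show (((galMu c.right c'.left).1 : Fldˣ) : Fld) = c.right.1 ((c'.left.1 : Fldˣ) : Fld) from rfl]; ring)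

/-- The solvable group. -/
abbrev Big := N7 Fld ⋊[actN] Frob20

theorem actN_apply (c : Frob20) (a : N7 Fld) : actN c a =
    ⟨((c.left.1 : Fldˣ) : Fld) * c.right.1 a.x, ((c.left.1 : Fldˣ) : Fld) * c.right.1 a.y,
      ((c.left.1 : Fldˣ) : Fld) ^ 4 * c.right.1 a.d, ((c.left.1 : Fldˣ) : Fld) ^ 2 * c.right.1 a.e,
      ((c.left.1 : Fldˣ) : Fld) ^ 2 * c.right.1 a.f, ((c.left.1 : Fldˣ) : Fld) ^ 4 * c.right.1 a.g,
      ((c.left.1 : Fldˣ) : Fld) ^ 3 * c.right.1 a.w⟩ := rfl

theorem gal_cases (σ : Gal) : ∃ k < 4, σ.1 = fr ^ k := by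
  have hfin : IsOfFinOrder fr := isOfFinOrder_iff_pow_eq_one.2 ⟨4, by norm_num, fr_pow_four⟩
  obtain ⟨k, hk⟩ := hfin.mem_powers_iff_mem_zpowers.2 σ.2
  refine ⟨k % 4, Nat.mod_lt _ (by norm_num), ?_⟩
  have h4 := (pow_mod_orderOf fr k).symm
  rw [orderOf_fr] at h4
  exact hk.symm.trans h4

/-- An element with nontrivial image in the roots of unity and trivial Galois part acts without fixed points. -/
theorem fpf (z : Mu) (hz : z ≠ 1) (a : N7 Fld) (ha : actN ⟨z, 1⟩ a = a) : a = 1 := by
  rw [actN_apply] at ha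
  set ζ : Fld := ((z.1 : Fldˣ) : Fld) with hζ
  have hζ1 : ζ ≠ 1 := fun h => hz (Subtype.ext (Units.ext h))
  have h5 : ζ ^ 5 = 1 := mu_pow z
  have ho : orderOf ζ = 5 := haveI := Fact.mk (show Nat.Prime 5 by norm_num); orderOf_eq_prime h5 hζ1
  have hne : ∀ k, 0 < k → k < 5 → ζ ^ k ≠ 1 := fun k h0 hk h => by
    have := Nat.le_of_dvd h0 (orderOf_dvd_of_pow_eq_one h)
    omega
  have key : ∀ k, 0 < k → k < 5 → ∀ u : Fld, ζ ^ k * u = u → u = 0 := fun k h0 hk u h => by
    by_contra hu
    exact hne k h0 hk (mul_right_cancel₀ hu (h.trans (one_mul u).symm))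
  simp only [OneMemClass.coe_one, RingAut.one_apply] at ha
  have hx := congrArg N7.x ha
  have hy := congrArg N7.y ha
  have hd := congrArg N7.d ha
  have he := congrArg N7.e ha
  have hf := congrArg N7.f ha
  have hg := congrArg N7.g ha
  have hw := congrArg N7.w ha
  simp only at hx hy hd he hf hg hw
  rw [N7.one_def]
  ext
  exacts [key 1 (by norm_num) (by norm_num) _ (by rw [pow_one]; exact hx),
    key 1 (by norm_num) (by norm_num) _ (by rw [pow_one]; exact hy),
    key 4 (by norm_num) (by norm_num) _ hd, key 2 (by norm_num) (by norm_num) _ he,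
    key 2 (by norm_num) (by norm_num) _ hf, key 4 (by norm_num) (by norm_num) _ hg,
    key 3 (by norm_num) (by norm_num) _ hw]

theorem pow_five (n : N7 Fld) (z : Mu) (hz : z ≠ 1) : (⟨n, ⟨z, 1⟩⟩ : Big) ^ 5 = 1 := by
  set c : Frob20 := ⟨z, 1⟩
  have hinj : Function.Injective fun m : N7 Fld => m * (actN c m)⁻¹ := by
    intro a b h
    have h1 : actN c (b⁻¹ * a) = b⁻¹ * a := by
      rw [map_mul, map_inv]
      calc (actN c b)⁻¹ * actN c a = b⁻¹ * (b * (actN c b)⁻¹) * actN c a := by group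
        _ = b⁻¹ * (a * (actN c a)⁻¹) * actN c a := by rw [show a * (actN c a)⁻¹ = b * (actN c b)⁻¹ from h]
        _ = b⁻¹ * a := by group
    exact (inv_mul_eq_one.1 (fpf z hz _ h1)).symm
  obtain ⟨m, hm⟩ := (Finite.injective_iff_surjective.1 hinj) n
  have e : (⟨n, c⟩ : Big) = SemidirectProduct.inl m * SemidirectProduct.inr c * (SemidirectProduct.inl m)⁻¹ := by
    ext <;> simp [← hm]
  have hc : c ^ 5 = 1 := by
    have : c = SemidirectProduct.inl z := rfl
    rw [this, ← map_pow, show z ^ 5 = 1 from Subtype.ext (Units.ext (by simpa using mu_pow z)), map_one]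
  rw [e, conj_pow, ← map_pow, hc, map_one, mul_one, mul_inv_cancel]

theorem frob_pow_four (c : Frob20) (hc : c.right ≠ 1) :
    c ^ 4 = 1 ∧ ∃ j, (j = 1 ∨ j = 2) ∧ ((c ^ j).right.1 = fr ^ 2) ∧ (c ^ j) ^ 2 = 1 := by
  obtain ⟨k, hk4, hk⟩ := gal_cases c.right
  have hk0 : k ≠ 0 := by
    rintro rfl
    exact hc (Subtype.ext (by rw [hk, pow_zero]; rfl))
  set ζ : Fld := ((c.left.1 : Fldˣ) : Fld) with hζ
  have h5 : ζ ^ 5 = 1 := mu_pow c.left
  have hv : ∀ z : Mu, (((galMu c.right z).1 : Fldˣ) : Fld) = ((z.1 : Fldˣ) : Fld) ^ 3 ^ k := fun z => by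
    show c.right.1 ((z.1 : Fldˣ) : Fld) = _
    rw [hk, fr_pow_apply]
  have hgen : ∀ i, (((c ^ i).left.1 : Fldˣ) : Fld) = ζ ^ (∑ l ∈ Finset.range i, (3 ^ k) ^ l) := by
    intro i
    induction i with
    | zero => simp
    | succ i ih =>
      rw [pow_succ', SemidirectProduct.mul_left, Subgroup.coe_mul, Units.val_mul, hv, ih, ← pow_mul,
        ← hζ, geom_sum_succ, pow_succ', mul_comm (∑ l ∈ Finset.range i, (3 ^ k) ^ l) (3 ^ k)]
  have hright : ∀ i, (c ^ i).right.1 = fr ^ (k * i) := fun i => by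
    rw [show (c ^ i).right = c.right ^ i from map_pow SemidirectProduct.rightHom c i, SubgroupClass.coe_pow,
      hk, pow_mul]
  have hone : ∀ i, 5 ∣ (∑ l ∈ Finset.range i, (3 ^ k) ^ l) → 4 ∣ k * i → c ^ i = 1 := by
    rintro i ⟨q, hq⟩ ⟨r, hr⟩
    refine SemidirectProduct.ext (Subtype.ext (Units.ext ?_)) (Subtype.ext ?_)
    · rw [hgen, hq, pow_mul, h5, one_pow]; rfl
    · rw [hright, hr, pow_mul, fr_pow_four, one_pow]; rfl
  rcases (show k = 1 ∨ k = 2 ∨ k = 3 by omega) with rfl | rfl | rfl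
  · refine ⟨hone 4 (by decide) (by norm_num), 2, .inr rfl, by rw [hright], ?_⟩
    rw [← pow_mul]; exact hone 4 (by decide) (by norm_num)
  · refine ⟨hone 4 (by decide) (by norm_num), 1, .inl rfl, by rw [hright], ?_⟩
    rw [← pow_mul]; exact hone 2 (by decide) (by norm_num)
  · refine ⟨hone 4 (by decide) (by norm_num), 2, .inr rfl, ?_, ?_⟩
    · rw [hright, show 3 * 2 = 4 + 2 from rfl, pow_add, fr_pow_four, one_mul]
    · rw [← pow_mul]; exact hone 4 (by decide) (by norm_num)

/-- A fixed point of an involution of the Frobenius group has trivial cube. -/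
theorem cube_fixed (t : Frob20) (ht : t.right.1 = fr ^ 2) (a : N7 Fld) (ha : actN t a = a) : a ^ 3 = 1 := by
  rw [actN_apply, ht] at ha
  set z : Fld := ((t.left.1 : Fldˣ) : Fld) with hz
  have hz0 : z ≠ 0 := t.left.1.ne_zero
  have hx := congrArg N7.x ha
  have hy := congrArg N7.y ha
  simp only [fr_pow_apply] at hx hy
  norm_num at hx hy
  rw [N7.cube, N7.one_def]
  ext <;> simp only
  apply mul_left_cancel₀ hz0
  linear_combination (a.x * a.y ^ 3) * hy - a.y ^ 4 * hx

theorem pow_cases (u : Big) : u ^ 9 = 1 ∨ u ^ 5 = 1 ∨ u ^ 12 = 1 := by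
  by_cases h1 : u.right.right = 1
  · by_cases h2 : u.right.left = 1
    · left
      have e : u = SemidirectProduct.inl u.left :=
        SemidirectProduct.ext (by simp) (by rw [SemidirectProduct.right_inl]; exact SemidirectProduct.ext h2 h1)
      rw [e, ← map_pow, N7.pow_nine, map_one]
    · right; left
      have e : u = ⟨u.left, ⟨u.right.left, 1⟩⟩ := SemidirectProduct.ext rfl (SemidirectProduct.ext rfl h1)
      rw [e]; exact pow_five _ _ h2
  · right; right
    obtain ⟨hc4, j, hj, ht, ht2⟩ := frob_pow_four u.right h1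
    have hker : ∀ v : Big, v.right = 1 → v ^ 9 = 1 := fun v hv => by
      have e : v = SemidirectProduct.inl v.left :=
        SemidirectProduct.ext (by simp) (by rw [SemidirectProduct.right_inl, hv])
      rw [e, ← map_pow, N7.pow_nine, map_one]
    have hr : ∀ i, (u ^ i).right = u.right ^ i := fun i => map_pow SemidirectProduct.rightHom u i
    set s : Big := u ^ (9 * j) with hs
    have hst : s.right = u.right ^ j := by
      rw [hs, hr, show 9 * j = 4 * (2 * j) + j by ring, pow_add, pow_mul, hc4, one_pow, one_mul]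
    have hs2 : s ^ 2 = 1 := by
      rw [hs, ← pow_mul, show 9 * j * 2 = j * 2 * 9 by ring, pow_mul]
      exact hker _ (by rw [hr, pow_mul, ht2])
    set t := u.right ^ j
    set l := s.left
    have hlt : l * actN t l = 1 := by
      have := congrArg SemidirectProduct.left hs2
      rwa [pow_two, SemidirectProduct.mul_left, hst] at this
    set m := l ^ 5
    have hm : l = m * actN t m⁻¹ := by
      rw [map_inv, map_pow, eq_inv_of_mul_eq_one_right hlt, inv_pow, inv_inv, ← pow_add,
        show 5 + 5 = 9 + 1 from rfl, pow_succ, N7.pow_nine, one_mul]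
    have hse : s = SemidirectProduct.inl m * SemidirectProduct.inr t * (SemidirectProduct.inl m)⁻¹ := by
      refine SemidirectProduct.ext ?_ (by simp [hst])
      simpa using hm
    set v : Big := u ^ 4 with hv
    have hvr : v.right = 1 := by rw [hv, hr, hc4]
    have hve : v = SemidirectProduct.inl v.left :=
      SemidirectProduct.ext (by simp) (by rw [SemidirectProduct.right_inl, hvr])
    have hcomm : Commute v s := (Commute.refl u).pow_pow 4 (9 * j)
    have hfix : actN t (m⁻¹ * v.left * m) = m⁻¹ * v.left * m := by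
      have h1 : SemidirectProduct.inl (m⁻¹ * v.left * m) * (SemidirectProduct.inr t : Big) =
          SemidirectProduct.inr t * SemidirectProduct.inl (m⁻¹ * v.left * m) := by
        rw [map_mul, map_mul, ← hve, map_inv]
        have := hcomm.eq
        rw [hse] at this
        calc (SemidirectProduct.inl m)⁻¹ * v * SemidirectProduct.inl m * SemidirectProduct.inr t
            = (SemidirectProduct.inl m)⁻¹ * (v * (SemidirectProduct.inl m * SemidirectProduct.inr t *
              (SemidirectProduct.inl m)⁻¹)) * SemidirectProduct.inl m := by group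
          _ = _ := by rw [this]; group
      have h2 := congrArg SemidirectProduct.left h1
      simp at h2
      simpa using h2.symm
    have h3' := cube_fixed t (by exact ht) _ hfix
    have h3v : v.left ^ 3 = 1 := by
      have e : (m⁻¹ * v.left * m) ^ 3 = m⁻¹ * v.left ^ 3 * m := by
        simpa using conj_pow (i := 3) (a := m⁻¹) (b := v.left)
      rw [e] at h3'
      have := congrArg (fun w => m * w * m⁻¹) h3'
      simpa [mul_assoc] using this
    rw [show (12 : ℕ) = 4 * 3 from rfl, pow_mul, ← hv, hve, ← map_pow, h3v, map_one]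

theorem exists_nine : ∃ u : Big, orderOf u = 9 := by
  obtain ⟨ω, h0, h8⟩ := exists_eight
  refine ⟨SemidirectProduct.inl ⟨1, ω, 0, 0, 0, 0, 0⟩, ?_⟩
  rw [orderOf_injective _ SemidirectProduct.inl_injective]
  haveI := Fact.mk Nat.prime_three
  refine orderOf_eq_prime_pow (p := 3) (n := 1) ?_ ?_
  · rw [pow_one, N7.cube, N7.one_def]
    intro h
    have hw := congrArg N7.w h
    simp only at hw
    apply h8
    apply mul_left_cancel₀ (pow_ne_zero 4 h0)
    linear_combination hw
  · exact N7.pow_nine _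

theorem exists_five : ∃ u : Big, orderOf u = 5 := by
  haveI : Fact (Nat.Prime 5) := ⟨by norm_num⟩
  haveI := Fintype.ofFinite Fld
  obtain ⟨z, hz⟩ := exists_prime_orderOf_dvd_card' (G := Fldˣ) 5 (by rw [Nat.card_units, card_fld]; norm_num)
  have hz5 : z ∈ rootsOfUnity 5 Fld := by
    rw [mem_rootsOfUnity]
    exact hz ▸ pow_orderOf_eq_one z
  refine ⟨SemidirectProduct.inr (SemidirectProduct.inl ⟨z, hz5⟩), ?_⟩
  rw [orderOf_injective _ SemidirectProduct.inr_injective, orderOf_injective _ SemidirectProduct.inl_injective,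
    Subgroup.orderOf_mk, hz]

theorem exists_twelve : ∃ u : Big, orderOf u = 12 := by
  let n : N7 Fld := ⟨1, 0, 0, 0, 0, 0, 0⟩
  let c : Frob20 := SemidirectProduct.inr ⟨fr, Subgroup.mem_zpowers fr⟩
  refine ⟨SemidirectProduct.inl n * SemidirectProduct.inr c, ?_⟩
  have hn : orderOf (SemidirectProduct.inl n : Big) = 3 := by
    rw [orderOf_injective _ SemidirectProduct.inl_injective]
    haveI := Fact.mk Nat.prime_three
    refine orderOf_eq_prime ?_ ?_
    · rw [N7.cube, N7.one_def]; simp [n]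
    · intro h
      have := congrArg N7.x h
      simp [n, N7.one_def] at this
  have hc : orderOf (SemidirectProduct.inr c : Big) = 4 := by
    rw [orderOf_injective _ SemidirectProduct.inr_injective, orderOf_injective _ SemidirectProduct.inr_injective,
      Subgroup.orderOf_mk, orderOf_fr]
  have hfix : actN c n = n := by
    rw [actN_apply]
    simp [c, n]
  have hcomm : Commute (SemidirectProduct.inl n : Big) (SemidirectProduct.inr c) := by
    apply SemidirectProduct.ext <;> simp [hfix]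
  rw [hcomm.orderOf_mul_eq_mul_orderOf_of_coprime (by rw [hn, hc]; decide), hn, hc]

theorem range_big : Set.range (orderOf : Big → ℕ) = ↑({1, 2, 3, 4, 5, 6, 9, 12} : Finset ℕ) :=
  range_eq pow_cases exists_nine exists_five exists_twelve

theorem big_solvable : Group.IsSolvable Big := by
  haveI : Fact (Nat.Prime 3) := ⟨Nat.prime_three⟩
  have hN : IsPGroup 3 (N7 Fld) := fun a => ⟨2, by simpa using N7.pow_nine a⟩
  haveI := hN.isNilpotent
  haveI : Group.IsSolvable Gal := Group.isSolvable_of_comm fun a b => mul_comm' a b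
  haveI : Group.IsSolvable Frob20 :=
    solvable_of_ker_le_range (SemidirectProduct.inl : Mu →* Frob20) SemidirectProduct.rightHom
      (le_of_eq SemidirectProduct.range_inl_eq_ker_rightHom.symm)
  exact solvable_of_ker_le_range (SemidirectProduct.inl : N7 Fld →* Big) SemidirectProduct.rightHom
    (le_of_eq SemidirectProduct.range_inl_eq_ker_rightHom.symm)

end CfsgLib.SpecU42
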